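import Cfsg.Agent.Lib.helper3.G23TC.B.Main
import Cfsg.Agent.Lib.helper3.G23TC.B.Struct
import Cfsg.Agent.Lib.Helper12.TCG.WPres
import Cfsg.Agent.Lib.helper3.Heis27

/-!
The centralised presentation on the four long root elements `A`, `C`, `B`, `D` (letters `0, 2, 4, 6`, the odd
letters being their inverses) has at most 5616 elements: the subgroup generated by `A` and `B` has index at most
208 by coset enumeration, and it has at most 27 elements (helper3).
-/

set_option autoImplicit false
set_option maxRecDepth 100000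

namespace Cfsg.Agent.Lib.Helper3.G23TC.B

open Cfsg.Agent.Lib.Helper12.TC Cfsg.Agent.Lib.Helper12.TCG Cfsg.Agent.Lib.Helper3.TCUpper
open Cfsg.Agent.Lib.Helper3.StemPres Cfsg.Agent.Lib.Helper3.Heis27
open scoped commutatorElement

/-- the presented group -/
abbrev Grp : Type := WPres.Grp 8 baseL

/-- the letters as elements of the presented group -/
def v : ℕ → Grp := WPres.v 8 baseL

theorem hbase : ∀ b ∈ baseL, wprod v b = 1 := WPres.hbase 8 baseL

theorem hvge : ∀ s, ¬ s < 8 → v s = 1 := WPres.hvge 8 baseL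

theorem hvinv : ∀ s < 8, v (invS cIV s) = (v s)⁻¹ := WPres.hvinv 8 baseL cIV hpairs

theorem hgen : ∀ γ : Grp, γ ∈ Subgroup.closure {y | ∃ x < 8, y = v x} := WPres.hgen 8 baseL

theorem hbase' : ∀ b ∈ baseOf cIV 8 sData rels posL, wprod v b = 1 := by
  rw [← baseL_eq]; exact hbase

/-- the subgroup generated by `A` and `B` -/
def H : Subgroup Grp := Subgroup.closure {v 0, v 4}

theorem hswH : ∀ w ∈ sw, wprod v w ∈ H := by
  intro w hw
  have : w = [0] ∨ w = [4] := by simpa [sw] using hw
  rcases this with rfl | rfl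
  · rw [wprod_cons, wprod_nil, mul_one]; exact Subgroup.subset_closure (by simp)
  · rw [wprod_cons, wprod_nil, mul_one]; exact Subgroup.subset_closure (by simp)

theorem index_bound : Finite (Grp ⧸ H) ∧ Nat.card (Grp ⧸ H) ≤ cN :=
  index_le2 v 8 cIV (by decide) hiv hvinv hvge hgen baseL hbase hlet sw hletsw H hswH F finrecs chunks
    cD cK cN hdefs hchunks hcover hfin hlen

/-! ### the subgroup generated by `A` and `B` -/

/-- the word of the torus element inverting `B` -/
def hAw : List ℕ := [0, 3, 0, 0, 3, 0]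
/-- the word of the torus element inverting `A` -/
def hBw : List ℕ := [4, 7, 4, 4, 7, 4]
/-- the word of the root element of the highest root -/
def epsW : List ℕ := [4, 7, 4, 1, 5, 6, 5]

theorem hinvw (w : List ℕ) (hw : ∀ s ∈ w, s < 8) : wprod v (invw cIV w) = (wprod v w)⁻¹ :=
  wprod_invw v cIV w (fun s hs => hvinv s (hw s hs))

theorem v1 : v 1 = (v 0)⁻¹ := hvinv 0 (by decide)
theorem v5 : v 5 = (v 4)⁻¹ := hvinv 4 (by decide)

theorem cen {r : List ℕ} (hr : r ∈ rels) : wprod v r ∈ Subgroup.center Grp :=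
  rel_mem_center v cIV 8 hvinv hgen sData rels posL hpos hPl hRl hbase' hr

theorem hSa : v 0 = ⁅wprod v hBw, v 0⁆ := by
  have h := letter_eq_comm v cIV 8 hvinv sData rels posL hSl hbase' (p := (0, hBw, [0])) (by decide)
  simpa [wprod_cons, wprod_nil] using h

theorem hSb : v 4 = ⁅wprod v hAw, v 4⁆ := by
  have h := letter_eq_comm v cIV 8 hvinv sData rels posL hSl hbase' (p := (4, hAw, [4])) (by decide)
  simpa [wprod_cons, wprod_nil] using h

theorem ca : v 0 ^ 3 ∈ Subgroup.center Grp := by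
  have h := cen (r := [0, 0, 0]) (by decide)
  have e : wprod v [0, 0, 0] = v 0 ^ 3 := by
    simp only [wprod_cons, wprod_nil, mul_one, pow_succ, pow_zero, one_mul, mul_assoc]
  rwa [e] at h

theorem cb : v 4 ^ 3 ∈ Subgroup.center Grp := by
  have h := cen (r := [4, 4, 4]) (by decide)
  have e : wprod v [4, 4, 4] = v 4 ^ 3 := by
    simp only [wprod_cons, wprod_nil, mul_one, pow_succ, pow_zero, one_mul, mul_assoc]
  rwa [e] at h

theorem c0 : ∃ z ∈ Subgroup.center Grp, ∃ n : ℤ, ⁅v 0, v 4⁆ = z * wprod v epsW ^ n := by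
  have h := cen (r := [0, 4, 1, 5] ++ invw cIV epsW) (by decide)
  refine ⟨_, h, 1, ?_⟩
  rw [wprod_append, hinvw epsW (by decide), zpow_one]
  simp only [wprod_cons, wprod_nil, mul_one, v1, v5, commutatorElement_def]
  group

theorem c1 : ⁅v 0, wprod v epsW⁆ ∈ Subgroup.center Grp := by
  have h := cen (r := 0 :: (epsW ++ 1 :: invw cIV epsW)) (by decide)
  have e : wprod v (0 :: (epsW ++ 1 :: invw cIV epsW)) = ⁅v 0, wprod v epsW⁆ := by
    rw [wprod_cons, wprod_append, wprod_cons, hinvw epsW (by decide), v1, commutatorElement_def]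
    group
  rwa [e] at h

theorem c2 : ⁅v 4, wprod v epsW⁆ ∈ Subgroup.center Grp := by
  have h := cen (r := 4 :: (epsW ++ 5 :: invw cIV epsW)) (by decide)
  have e : wprod v (4 :: (epsW ++ 5 :: invw cIV epsW)) = ⁅v 4, wprod v epsW⁆ := by
    rw [wprod_cons, wprod_append, wprod_cons, hinvw epsW (by decide), v5, commutatorElement_def]
    group
  rwa [e] at h

theorem c3 : ⁅wprod v hAw, v 0⁆ ∈ Subgroup.center Grp := by
  have h := cen (r := commW cIV hAw 0) (by decide)
  rwa [wprod_commW v cIV hAw 0 (fun s hs => hvinv s (by revert s; decide)) (hvinv 0 (by decide))] at h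

theorem c5 : ⁅wprod v hBw, v 4⁆ ∈ Subgroup.center Grp := by
  have h := cen (r := commW cIV hBw 4) (by decide)
  rwa [wprod_commW v cIV hBw 4 (fun s hs => hvinv s (by revert s; decide)) (hvinv 4 (by decide))] at h

theorem c4 : wprod v hAw * wprod v epsW * (wprod v hAw)⁻¹ * wprod v epsW ∈ Subgroup.center Grp := by
  have h := cen (r := hAw ++ (epsW ++ (invw cIV hAw ++ epsW))) (by decide)
  have e : wprod v (hAw ++ (epsW ++ (invw cIV hAw ++ epsW))) =
      wprod v hAw * wprod v epsW * (wprod v hAw)⁻¹ * wprod v epsW := by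
    rw [wprod_append, wprod_append, wprod_append, hinvw hAw (by decide)]
    group
  rwa [e] at h

theorem c6 : wprod v hBw * wprod v epsW * (wprod v hBw)⁻¹ * wprod v epsW ∈ Subgroup.center Grp := by
  have h := cen (r := hBw ++ (epsW ++ (invw cIV hBw ++ epsW))) (by decide)
  have e : wprod v (hBw ++ (epsW ++ (invw cIV hBw ++ epsW))) =
      wprod v hBw * wprod v epsW * (wprod v hBw)⁻¹ * wprod v epsW := by
    rw [wprod_append, wprod_append, wprod_append, hinvw hBw (by decide)]
    group
  rwa [e] at h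

theorem heis : v 0 ^ 3 = 1 ∧ v 4 ^ 3 = 1 ∧ Commute ⁅v 0, v 4⁆ (v 0) ∧ Commute ⁅v 0, v 4⁆ (v 4) :=
  heis_of_central (h1 := wprod v hAw) (h2 := wprod v hBw) (ε := wprod v epsW) hSa hSb ca cb c0 c1 c2 c3 c4
    c5 c6

theorem card_H : Finite H ∧ Nat.card H ≤ 27 := by
  obtain ⟨h1, h2, h3, h4⟩ := heis
  exact card_closure_le h1 h2 h3 h4

/-- the presented group has at most 5616 elements -/
theorem card_le : Finite Grp ∧ Nat.card Grp ≤ 5616 := by
  obtain ⟨hf1, hc1⟩ := index_bound
  obtain ⟨hf2, hc2⟩ := card_H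
  have hG : Finite Grp := Finite.of_equiv _ (Subgroup.groupEquivQuotientProdSubgroup (s := H)).symm
  refine ⟨hG, ?_⟩
  rw [Subgroup.card_eq_card_quotient_mul_card_subgroup H]
  calc Nat.card (Grp ⧸ H) * Nat.card H ≤ cN * 27 := Nat.mul_le_mul hc1 hc2
    _ = 5616 := by decide

end Cfsg.Agent.Lib.Helper3.G23TC.B
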