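import Cfsg.Agent.Lib.helper3.G23TC.A.Main
import Cfsg.Agent.Lib.helper3.G23TC.A.Struct
import Cfsg.Agent.Lib.helper3.G23TC.PresB

/-!
The centralised presentation on the root elements `A`, `C`, `B`, `D`, `x`, `y` (letters `0, 2, …, 10`, the odd
letters being their inverses) of the Chevalley group of type `G₂` over the field with three elements has at
most `3 * 4245696` elements: the subgroup generated by the first four letters has index at most 2268 by coset
enumeration, and it is a homomorphic image of the group of `PresB` (helper3).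
-/

set_option autoImplicit false
set_option maxRecDepth 100000

namespace Cfsg.Agent.Lib.Helper3.G23TC.A

open Cfsg.Agent.Lib.Helper12.TC Cfsg.Agent.Lib.Helper12.TCG Cfsg.Agent.Lib.Helper3.TCUpper
open Cfsg.Agent.Lib.Helper3.StemPres

/-- the presented group -/
abbrev Grp : Type := WPres.Grp 12 baseL

/-- the letters as elements of the presented group -/
def v : ℕ → Grp := WPres.v 12 baseL

theorem hbase : ∀ b ∈ baseL, wprod v b = 1 := WPres.hbase 12 baseL

theorem hvge : ∀ s, ¬ s < 12 → v s = 1 := WPres.hvge 12 baseL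

theorem hvinv : ∀ s < 12, v (invS cIV s) = (v s)⁻¹ := WPres.hvinv 12 baseL cIV hpairs

theorem hgen : ∀ γ : Grp, γ ∈ Subgroup.closure {y | ∃ x < 12, y = v x} := WPres.hgen 12 baseL

theorem hbase' : ∀ b ∈ baseOf cIV 12 sData rels posL, wprod v b = 1 := by
  rw [← baseL_eq]; exact hbase

/-- the subgroup generated by the long root elements -/
def H : Subgroup Grp := Subgroup.closure {v 0, v 2, v 4, v 6}

theorem hswH : ∀ w ∈ sw, wprod v w ∈ H := by
  intro w hw
  have : w = [0] ∨ w = [2] ∨ w = [4] ∨ w = [6] := by simpa [sw] using hw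
  rcases this with rfl | rfl | rfl | rfl <;>
  · rw [wprod_cons, wprod_nil, mul_one]; exact Subgroup.subset_closure (by simp)

theorem index_bound : Finite (Grp ⧸ H) ∧ Nat.card (Grp ⧸ H) ≤ cN :=
  index_le2 v 12 cIV (by decide) hiv hvinv hvge hgen baseL hbase hlet sw hletsw H hswH F finrecs chunks
    cD cK cN hdefs hchunks hcover hfin hlen

theorem baseB_sub : ∀ b ∈ B.baseL, b ∈ baseL := by decide +kernel

theorem cIV_eq : ∀ s < 8, invS B.cIV s = invS cIV s := by decide

/-- the homomorphism from the group of the long root elements -/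
theorem exists_homB : ∃ ρ : B.Grp →* Grp, ∀ x < 8, ρ (B.v x) = v x :=
  WPres.hlift 8 B.baseL B.hlet v (fun b hb => hbase b (baseB_sub b hb))

theorem card_H : Finite H ∧ Nat.card H ≤ 5616 := by
  obtain ⟨ρ, hρ⟩ := exists_homB
  obtain ⟨hfB, hcB⟩ := B.card_le
  have hle : H ≤ ρ.range := by
    unfold H
    rw [Subgroup.closure_le]
    intro y hy
    simp only [Set.mem_insert_iff, Set.mem_singleton_iff] at hy
    rcases hy with rfl | rfl | rfl | rfl
    · exact ⟨B.v 0, hρ 0 (by decide)⟩
    · exact ⟨B.v 2, hρ 2 (by decide)⟩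
    · exact ⟨B.v 4, hρ 4 (by decide)⟩
    · exact ⟨B.v 6, hρ 6 (by decide)⟩
  have hfr : Finite ρ.range := Finite.of_surjective ρ.rangeRestrict ρ.rangeRestrict_surjective
  have hfH : Finite H := Finite.of_injective (Subgroup.inclusion hle) (Subgroup.inclusion_injective hle)
  refine ⟨hfH, ?_⟩
  calc Nat.card H ≤ Nat.card ρ.range := Nat.card_le_card_of_injective _ (Subgroup.inclusion_injective hle)
    _ ≤ Nat.card B.Grp := Nat.card_le_card_of_surjective _ ρ.rangeRestrict_surjective
    _ ≤ 5616 := hcB

/-- the presented group has at most `3 * 4245696` elements -/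
theorem card_le : Finite Grp ∧ Nat.card Grp ≤ 12737088 := by
  obtain ⟨hf1, hc1⟩ := index_bound
  obtain ⟨hf2, hc2⟩ := card_H
  have hG : Finite Grp := Finite.of_equiv _ (Subgroup.groupEquivQuotientProdSubgroup (s := H)).symm
  refine ⟨hG, ?_⟩
  rw [Subgroup.card_eq_card_quotient_mul_card_subgroup H]
  calc Nat.card (Grp ⧸ H) * Nat.card H ≤ cN * 5616 := Nat.mul_le_mul hc1 hc2
    _ = 12737088 := by decide

end Cfsg.Agent.Lib.Helper3.G23TC.A
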